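import Cfsg.Statements.S5316
import Cfsg.Agent.H1.Cube2

set_option autoImplicit false
open Cfsg

namespace Cfsg.Agent.S5316

/-- Let p ≥ 5 be a prime, S a finite p-group of maximal class of order p^n with n ≥ 5 (nilpotency class n − 1), F a saturated fusion system over S, and E an F-essential subgroup that is not a pearl (not elementary abelian of order p² and not extraspecial of order p³ and exponent p). Then E has order at least p⁴. -/
theorem result {Ω : Type*} [Group Ω] {S : Subgroup Ω} [Finite S] (p : ℕ) [Fact p.Prime] (hp : 5 ≤ p) (hS : IsPGroup p ↥S) (n : ℕ) (hn : Nat.card S = p ^ n) (h5 : 5 ≤ n)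
    (hmax : Subgroup.lowerCentralSeries S (n - 2) ≠ ⊥) (F : Cfsg.FusionSystem S) (hF : F.IsSaturated p)
    (E : Subgroup Ω) (hE : F.IsEssential p E)
    (hnp : ¬ ((Nat.card ↥E = p ^ 2 ∧ Cfsg.IsElementaryAbelian p E) ∨ (Nat.card ↥E = p ^ 3 ∧ Cfsg.IsExtraspecial p ↥E ∧ Monoid.exponent ↥E = p))) :
    p ^ 4 ≤ Nat.card ↥E := by
  haveI := Fus.finite_of_le hE.le
  have hpE := Fus.isPGroup_of_le hS hE.le
  have hA := H8.essAut_of_isEssential hE
  have pp : p.Prime := Fact.out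
  obtain ⟨k, hk⟩ := IsPGroup.iff_card.1 hpE
  obtain ⟨_, d, h1, h2, -⟩ := H8.card_frattini_cases hpE hA.not_stab hk
  rw [hk, Nat.pow_le_pow_iff_right pp.one_lt]
  by_contra h4
  obtain rfl | rfl : k = 2 ∨ k = 3 := by omega
  · obtain ⟨h5, h6, -⟩ := hA.exists_sl2 hpE hk
    exact hnp (.inl ⟨hk, ⟨⟨h5⟩⟩, fun a ha => congrArg Subtype.val (h6 ⟨a, ha⟩)⟩)
  rcases H8.card_cube_cases hpE hA.not_stab hk with ⟨h7, h6⟩ | ⟨-, h5, h6⟩ | h5
  · obtain ⟨m, rfl⟩ : ∃ m, n = m + 1 + 4 := ⟨n - 5, by omega⟩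
    obtain ⟨θ, F', t⟩ := H1.exists_transp_top F
    have e := t.symm.piso.equiv hE.le
    refine H1.MC.no_cube (G := S) (m := m) ⟨hS, hn, fun e => hmax ?_⟩ hp
      ⟨t.symm.isPGroup hS, t.symm.isSaturated hF, t.symm.isEssential hE, ⟨⟨⟨fun a b =>
        e.symm.injective (by rw [map_mul, map_mul, h7])⟩⟩, fun a ha => congrArg Subtype.val
        (e.symm.injective (a₁ := ⟨a, ha⟩ ^ p) (a₂ := 1) (by rw [map_pow, h6, map_one]))⟩,
        (t.symm.piso.card_img hE.le).trans hk⟩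
    rw [← Subgroup.top_subtype_lowerCentralSeries,
      Subgroup.map_eq_bot_iff_of_injective _ S.subtype_injective]
    exact e
  · haveI : Nontrivial E := Finite.one_lt_card_iff_nontrivial.1
      (hk ▸ Nat.one_lt_pow (by omega) pp.one_lt)
    exact hnp (.inr ⟨hk, h5, (Monoid.exponent_eq_prime_iff pp).2 fun g hg =>
      orderOf_eq_prime (h6 g) hg⟩)
  · omega

end Cfsg.Agent.S5316
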