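import Cfsg.Statements.S1249
import Cfsg.Agent.H6.Closed

set_option autoImplicit false
open Cfsg

namespace Cfsg.Agent.S1249

set_option linter.unusedVariables false
open Cfsg.Agent.H6


/-- Let P and Q be Sylow p-subgroups of the finite group G both containing the subgroup A. If A is strongly closed in P, then A is strongly closed in Q. -/
theorem result {G : Type*} [Group G] [Finite G] {p : ℕ} [Fact p.Prime] (P Q : Sylow p G) (A : Subgroup G) (hAQ : A ≤ Q) (hA : Cfsg.IsStronglyClosed A (P : Subgroup G)) : Cfsg.IsStronglyClosed A (Q : Subgroup G) := by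
  exact stronglyClosed_of_pgroup P hA Q.2 hAQ

end Cfsg.Agent.S1249
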