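import Cfsg.Statements.S1250
import Cfsg.Agent.H6.Closed

set_option autoImplicit false
open Cfsg

namespace Cfsg.Agent.S1250

set_option linter.unusedVariables false
open Cfsg.Agent.H6


/-- Let S be a Sylow p-subgroup of the finite group G, A ≤ S strongly closed in S, and N a normal subgroup. Then the image of A in G ⧸ N is strongly closed in the image of S (which is a Sylow p-subgroup of G ⧸ N). -/
theorem result {G : Type*} [Group G] [Finite G] {p : ℕ} [Fact p.Prime] (S : Sylow p G) (A : Subgroup G) (hA : Cfsg.IsStronglyClosed A (S : Subgroup G)) (N : Subgroup G) [N.Normal] : Cfsg.IsStronglyClosed (A.map (QuotientGroup.mk' N)) ((S : Subgroup G).map (QuotientGroup.mk' N)) := by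
  exact stronglyClosed_map_mk S hA N

end Cfsg.Agent.S1250
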