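import Cfsg.Statements.S1251
import Cfsg.Agent.H6.ZS

set_option autoImplicit false
open Cfsg

namespace Cfsg.Agent.S1251

set_option linter.unusedVariables false
set_option linter.style.haveILetI false
open Cfsg.Agent.H6


/-- Let S be a Sylow 2-subgroup of the finite group G and A ≤ S strongly closed in S. If H is a subgroup normalized by A with no nontrivial normal subgroup of odd order and A ∩ H = 1, then A ≤ C_G(H). -/
theorem result {G : Type*} [Group G] [Finite G] (S : Sylow 2 G) (A : Subgroup G) (hA : Cfsg.IsStronglyClosed A (S : Subgroup G)) (H : Subgroup G) (hAH : A ≤ Subgroup.normalizer (H : Set G)) (hO : Cfsg.oddCore ↥H = ⊥) (hdisj : A ⊓ H = ⊥) : A ≤ Subgroup.centralizer (H : Set G) := by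
  intro a ha h hh
  have hA2 : IsPGroup 2 A := S.isPGroup'.to_le hA.1
  set K : Subgroup G := A ⊔ H with hK
  have hKH : K ≤ Subgroup.normalizer (H : Set G) := sup_le hAH Subgroup.le_normalizer
  obtain ⟨T₁, hT₁, hAT⟩ := exists_isSylowIn hA2 (le_sup_left : A ≤ K)
  have hsc := stronglyClosed_of_pgroup S hA hT₁.pgroup hAT
  set M : Subgroup G := Subgroup.zpowers a ⊔ H with hM
  have hMK : M ≤ K := sup_le_sup_right (Subgroup.zpowers_le.2 ha) _
  have haM : a ∈ M := Subgroup.mem_sup_left (Subgroup.mem_zpowers a)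
  have hcomm : ∀ g ∈ M, g * a * g⁻¹ * a⁻¹ ∈ H := by
    intro g hg
    have h1 : g ∈ ((Subgroup.zpowers a ⊔ H : Subgroup G) : Set G) := hg
    rw [Subgroup.coe_mul_of_left_le_normalizer_right _ _ (Subgroup.zpowers_le.2 (hAH ha))] at h1
    obtain ⟨_, ⟨i, rfl⟩, k, hk, rfl⟩ := h1
    have : a ^ i * k * a * (a ^ i * k)⁻¹ * a⁻¹ = a ^ i * (k * (a * k⁻¹ * a⁻¹)) * (a ^ i)⁻¹ := by
      group
    dsimp only
    rw [this]
    exact conj_mem_of_mem_normalizer (Subgroup.zpow_mem _ (hAH ha) i)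
      (H.mul_mem hk (conj_mem_of_mem_normalizer (hAH ha) (H.inv_mem hk)))
  have ha2 : IsPGroup 2 (Subgroup.zpowers (⟨a, haM⟩ : M)) := by
    obtain ⟨k, hk⟩ := hA2 ⟨a, ha⟩
    exact isPGroup_zpowers_of_pow (k := k) (Subtype.ext (congrArg (Subtype.val : A → G) hk))
  obtain ⟨T, hT⟩ := ha2.exists_le_sylow
  have haT := hT (Subgroup.mem_zpowers _)
  have hz := zstar_wc T haT (fun g hg => by
    obtain ⟨m, hm, e⟩ := hT₁.exists_conj (T.isPGroup'.map M.subtype)
      ((Subgroup.map_subtype_le _).trans hMK)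
    have h1 := hsc.2 a ha m (e _ ⟨_, haT, rfl⟩)
    have h2 := hsc.2 a ha (m * g) (by
      have := e _ ⟨_, hg, rfl⟩
      convert this using 1; simp; group)
    have h3 := conj_mem_of_mem_normalizer (hKH hm) (hcomm g g.2)
    have h4 : m * (g * a * (g : G)⁻¹ * a⁻¹) * m⁻¹ ∈ A ⊓ H := Subgroup.mem_inf.2 ⟨by
      have := A.mul_mem h2 (A.inv_mem h1)
      convert this using 1; group, h3⟩
    rw [hdisj, Subgroup.mem_bot, conj_eq_one_iff, mul_inv_eq_one] at h4
    exact Subtype.ext h4) ⟨h, Subgroup.mem_sup_right hh⟩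
  have hHM : H ≤ M := le_sup_right
  have hle : (oddCore M).comap (Subgroup.inclusion hHM) ≤ oddCore H := by
    refine H1.le_pPrimeCore inferInstance (Nat.Coprime.coprime_dvd_left ?_ (H1.pPrimeCore_coprime 2 M))
    exact Subgroup.card_comap_dvd_of_injective _ _ (Subgroup.inclusion_injective hHM)
  have h5 : a * h * a⁻¹ * h⁻¹ ∈ H :=
    H.mul_mem (conj_mem_of_mem_normalizer (hAH ha) hh) (H.inv_mem hh)
  have h6 := hle (x := ⟨_, h5⟩) hz
  rw [hO, Subgroup.mem_bot] at h6
  have h7 : a * h * a⁻¹ * h⁻¹ = 1 := congrArg Subtype.val h6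
  calc h * a = (a * h * a⁻¹ * h⁻¹) * h * a := by rw [h7, one_mul]
    _ = a * h := by group

end Cfsg.Agent.S1251
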