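import Cfsg.Statements.S5175
import Cfsg.Agent.Pu.C4
import Cfsg.Agent.Pu.D2
import Cfsg.Agent.Pu.E3
import Cfsg.Agent.Pu.F2
import Cfsg.Agent.Pu.G5
import Cfsg.Agent.Pu.K4
import Cfsg.Agent.Pu.N1
import Cfsg.Agent.Pu.O3
import Cfsg.Agent.Pu.O4
import Cfsg.Agent.Pu.O5
import Cfsg.Agent.Pu.P4
import Cfsg.Agent.Pu.Q2
import Cfsg.Agent.Pu.R3
import Cfsg.Agent.Pu.V1
import Cfsg.Agent.Pu.W5
import Cfsg.Agent.Pu.W6

set_option autoImplicit false
universe u
open Cfsg

namespace Cfsg.Agent.S5175

/-- A classification of minimal 2-fusion systems in the pushing-up case. Let F be a saturated fusion system over a finite 2-group S that is minimal: its largest normal subgroup is trivial and the normalizer system of every nontrivial fully normalized subgroup is solvable (solvable meaning that every factor system by a proper strongly closed subgroup has a nontrivial normal subgroup). Suppose there is a proper saturated subsystem N of F over S that contains the normalizer system N_F(R) of every nontrivial normal subgroup R of S for which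 N_F(R) contains N_F(S). Then F is realized by a finite group G with S as a Sylow 2-subgroup such that one of the following holds: S is dihedral of order at least 16 and G is isomorphic to PSL(2, r) or PGL(2, r) with r odd; S is quasi-dihedral and G has a normal subgroup of index 2 with trivial centralizer isomorphic to PSL(2, r²) with r odd; S is quasi-dihedral of order 16 and G is isomorphic to PSL(3,3); S has order 32 and G is isomorphic to the automorphism group of the alternating group of degree 6 or of PSL(3,3); S has order 2⁷ and G is isomorphic to the Janko group J₃; or the generalized Fitting subgroup of G is isomorphic to PSL(3, q) or to PSp(4, 2ᵉ) with e odd, has odd index in O²(G) (the subgroup generated by the elements of odd order), and O²(G) has index 2 in G. -/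
theorem result {Ω : Type u} [Group Ω] {S : Subgroup Ω} [Finite S] (hS : IsPGroup 2 S)
    (F : Cfsg.FusionSystem S) (hF : F.IsSaturated 2) (hO : F.core = ⊥)
    (hmin : ∀ U : Subgroup Ω, U ≠ ⊥ → F.IsFullyNormalized U →
      ∀ E : Cfsg.FusionSystem (Cfsg.FusionSystem.normalizerIn S U), F.IsNormalizerSystem U E →
        E.IsSolvableSystem)
    (N : Cfsg.FusionSystem S) (hNsat : N.IsSaturated 2) (hNle : N ≤ F) (hNne : N ≠ F)
    (hpar : ∀ R : Subgroup Ω, R ≠ ⊥ → R ≤ S → S ≤ Subgroup.normalizer (R : Set Ω) →
      (∀ P : Subgroup Ω, F.normalizerHom S P ⊆ F.normalizerHom R P) →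
      ∀ P : Subgroup Ω, F.normalizerHom R P ⊆ N.Hom P) :
    ∃ (G : Type u) (_ : Group G) (_ : Finite G) (ι : ↥S →* G),
      F.IsRealizedBy ι ∧ (∃ T : Sylow 2 G, (T : Subgroup G) = ι.range) ∧
      (((∃ m : ℕ, 8 ≤ m ∧ Nonempty (↥S ≃* DihedralGroup m)) ∧
          ∃ (K : Type) (_ : Field K) (_ : Fintype K), Odd (Fintype.card K) ∧
            (Nonempty (G ≃* Matrix.ProjectiveSpecialLinearGroup (Fin 2) K) ∨
              Nonempty (G ≃* GL (Fin 2) K ⧸ Subgroup.center (GL (Fin 2) K)))) ∨
        (Cfsg.IsQuasiDihedral ↥S ∧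
          ∃ (K : Type) (_ : Field K) (_ : Fintype K) (r : ℕ), Odd r ∧ Fintype.card K = r ^ 2 ∧
            ∃ L : Subgroup G, L.Normal ∧ L.index = 2 ∧ Subgroup.centralizer (L : Set G) = ⊥ ∧
              Nonempty (↥L ≃* Matrix.ProjectiveSpecialLinearGroup (Fin 2) K)) ∨
        (Cfsg.IsQuasiDihedral ↥S ∧ Nat.card S = 16 ∧
          Nonempty (G ≃* Matrix.ProjectiveSpecialLinearGroup (Fin 3) (ZMod 3))) ∨
        (Nat.card S = 32 ∧ (Nonempty (G ≃* MulAut ↥(alternatingGroup (Fin 6))) ∨
          Nonempty (G ≃* MulAut (Matrix.ProjectiveSpecialLinearGroup (Fin 3) (ZMod 3))))) ∨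
        (Nat.card S = 2 ^ 7 ∧ Cfsg.Spor.IsoJ3 G) ∨
        (∃ (K : Type) (_ : Field K) (_ : Fintype K),
          (Nonempty (↥(Cfsg.generalizedFittingSubgroup G) ≃* Matrix.ProjectiveSpecialLinearGroup (Fin 3) K) ∨
            (Nonempty (↥(Cfsg.generalizedFittingSubgroup G) ≃* Cfsg.PSp 2 K) ∧
              ∃ e : ℕ, Odd e ∧ Fintype.card K = 2 ^ e)) ∧
          Cfsg.generalizedFittingSubgroup G ≤ Cfsg.pResidual 2 G ∧
          Odd ((Cfsg.generalizedFittingSubgroup G).subgroupOf (Cfsg.pResidual 2 G)).index ∧
          (Cfsg.pResidual 2 G).index = 2)) :=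
  Pu.main hS hF hO hmin hNsat hNle hNne hpar

end Cfsg.Agent.S5175
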