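import Cfsg.Statements.S5178
import Cfsg.Agent.H1.ExSp

set_option autoImplicit false
universe u
open Cfsg

namespace Cfsg.Agent.S5178

/-- Let p be an odd prime, S a finite p-group containing an extraspecial subgroup Q of index p, and F a saturated fusion system over S whose largest subgroup normal in F is trivial. Then the centre of S equals the centre of Q. -/
theorem result {Ω : Type u} [Group Ω] {S : Subgroup Ω} [Finite S] (p : ℕ) [Fact p.Prime] (hp : Odd p) (hS : IsPGroup p S)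
    (Q : Subgroup Ω) (hQS : Q ≤ S) (hQ : Cfsg.IsExtraspecial p ↥Q) (hQi : (Q.subgroupOf S).index = p)
    (F : Cfsg.FusionSystem S) (hF : F.IsSaturated p) (hO : F.core = ⊥) :
    S ⊓ Subgroup.centralizer (S : Set Ω) = Q ⊓ Subgroup.centralizer (Q : Set Ω) := by
  obtain ⟨h1, h2⟩ := H1.extraspecial_iff hQ
  haveI := Cfsg.Fus.finite_of_le hQS
  have hn := H1.le_normalizer_of_relIndex hS hQS hQi
  have hne : H1.zc Q ≠ ⊥ := fun e => (Fact.out : p.Prime).one_lt.ne (by simpa [e] using h2)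
  have h3 : H1.zc Q ≤ H1.zc S := by
    obtain ⟨z, hz, hz1, -, hzc⟩ := Cfsg.Fus.exists_central_of_ne_bot (Q := H1.zc Q) hS le_rfl
      (inf_le_left.trans hQS) (fun s hs => by
        haveI := Cfsg.Fus.finite_of_le (inf_le_left : H1.zc Q ≤ Q)
        exact Cfsg.Fus.mem_normalizer_of_finite fun y hy =>
          H1.iso_mem_zc (F.iso_cj hQS hs (hn hs)) hy) hne
    rw [← H1.eq_of_card_prime (Subgroup.zpowers_le.2 hz) h2 (by simpa using hz1)]
    exact Subgroup.zpowers_le.2 ⟨hQS hz.1, hzc⟩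
  refine le_antisymm (fun c hc => ?_) h3
  by_contra hcQ
  have hcQ' : c ∉ Q := fun e => hcQ ⟨e, Subgroup.centralizer_le hQS hc.2⟩
  have h4 : ⁅S, S⁆ = H1.zc Q := by
    refine le_antisymm ?_ (h1 ▸ Subgroup.commutator_mono hQS hQS)
    have h5 := H1.le_normalizer_of_le_zc h3
    rw [← H1.sup_zpowers_eq hQS hQi hc.1 hcQ']
    refine H1.commutator_sup_zpowers_le (hQS.trans h5) (h5 hc.1)
      (fun a ha b hb => h1 ▸ Subgroup.commutator_mem_commutator ha hb) fun a ha => ?_
    rw [commutatorElement_eq_one_iff_mul_comm.2 (hc.2 a (hQS ha)).symm]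
    exact one_mem _
  obtain ⟨E, hE⟩ : ∃ E, F.IsEssential p E := by
    by_contra he
    push Not at he
    exact hne (le_bot_iff.1 (hO ▸ (inf_le_left.trans hQS).trans (hF.isNormal_top hS he).le_core))
  obtain ⟨h5, -⟩ := H1.cls2_of_essential hS hE le_rfl (hE.lt hF hS) (h4 ▸ h3) (h4 ▸ h2)
  exact hcQ (h4.le (h5.zc_le_of_odd (by rintro rfl; exact absurd hp (by decide)) hF hO hc))

end Cfsg.Agent.S5178
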