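import Cfsg.Statements.S5181
import Cfsg.Agent.H1.R6

set_option autoImplicit false
universe u
open Cfsg

namespace Cfsg.Agent.S5181

/-- Let p be an odd prime, S a finite p-group of sectional p-rank exactly 3, and F a saturated fusion system over S whose largest subgroup normal in F is trivial. Then either S is isomorphic to a Sylow p-subgroup of Sp(4,p), or some essential subgroup of F is not normal in S. -/
theorem result {Ω : Type u} [Group Ω] {S : Subgroup Ω} [Finite S] (p : ℕ) [Fact p.Prime] (hp : Odd p) (hS : IsPGroup p S) (hsr : Cfsg.SectionalPRankLE p 3 ↥S ∧ ¬ Cfsg.SectionalPRankLE p 2 ↥S)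
    (F : Cfsg.FusionSystem S) (hF : F.IsSaturated p) (hO : F.core = ⊥) :
    (∃ P : Sylow p ↥(Matrix.symplecticGroup (Fin 2) (ZMod p)),
        Nonempty (↥S ≃* ↥(P : Subgroup ↥(Matrix.symplecticGroup (Fin 2) (ZMod p))))) ∨
      ∃ E : Subgroup Ω, F.IsEssential p E ∧ ¬ S ≤ Subgroup.normalizer (E : Set Ω) := by
  have hp2 : p ≠ 2 := fun e => by simp [e, Nat.odd_iff] at hp
  refine or_iff_not_imp_right.2 fun hn => ?_
  push Not at hn
  obtain ⟨θ, F', t⟩ := H1.exists_transp_top F
  obtain h | ⟨A, B, -, h⟩ := H1.exists_sp (t.symm.isPGroup hS) (t.symm.isSaturated hF) hp2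
    (H1.sr3_of hsr.1).top (by rw [← t.symm.img_core, hO, t.piso.symm.img_bot]) (H1.top_ne_bot hsr.2)
    fun E hE => H1.normalizer_top_of (H1.img_val E ▸ hn _ (t.isEssential hE))
  · exact absurd h (H1.not_card_cube hsr.2)
  · exact h.hA.sylow_sp h.main hp2

end Cfsg.Agent.S5181
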