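import Cfsg.Statements.S5182
import Cfsg.Agent.H1.R11

set_option autoImplicit false
universe u
open Cfsg

namespace Cfsg.Agent.S5182

/-- Let p ≥ 5 be a prime, S a finite p-group of sectional p-rank exactly 3, and F a saturated fusion system over S whose largest subgroup normal in F is trivial. Then F has an essential subgroup that is either elementary abelian of order p² or extraspecial of order p³ and exponent p. -/
theorem result {Ω : Type u} [Group Ω] {S : Subgroup Ω} [Finite S] (p : ℕ) [Fact p.Prime] (hp : 5 ≤ p) (hS : IsPGroup p S) (hsr : Cfsg.SectionalPRankLE p 3 ↥S ∧ ¬ Cfsg.SectionalPRankLE p 2 ↥S)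
    (F : Cfsg.FusionSystem S) (hF : F.IsSaturated p) (hO : F.core = ⊥) :
    ∃ E : Subgroup Ω, (F.IsEssential p E ∧ ((Cfsg.IsElementaryAbelian p E ∧ Nat.card E = p ^ 2) ∨
        (Cfsg.IsExtraspecial p ↥E ∧ Nat.card E = p ^ 3 ∧ ∀ x ∈ E, x ^ p = 1))) := by
  have hp2 : p ≠ 2 := by omega
  by_cases hn : ∀ E, F.IsEssential p E → S ≤ Subgroup.normalizer (E : Set Ω)
  · obtain ⟨θ, F', t⟩ := H1.exists_transp_top F
    obtain h | ⟨A, B, hB, h⟩ := H1.exists_sp (t.symm.isPGroup hS) (t.symm.isSaturated hF) hp2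
      (H1.sr3_of hsr.1).top (by rw [← t.symm.img_core, hO, t.piso.symm.img_bot]) (H1.top_ne_bot hsr.2)
      fun E hE => H1.normalizer_top_of (H1.img_val E ▸ hn _ (t.isEssential hE))
    · exact absurd h (H1.not_card_cube hsr.2)
    · have e : ∀ X : Subgroup S, (X.map S.subtype).subgroupOf S = X :=
        Subgroup.comap_map_eq_self_of_injective S.subtype_injective
      have k := H1.spc_of (Subgroup.map_subtype_le A) (Subgroup.map_subtype_le B) hp2
        ((e A).symm ▸ h.hA) ((e B).symm ▸ h.hB) (by rw [e, e]; exact h.main)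
      exact ⟨_, H1.img_val B ▸ t.isEssential hB, Or.inr ⟨k.ex, k.card', k.pow⟩⟩
  · push Not at hn
    obtain ⟨E, hE, hn⟩ := hn
    exact ⟨E, hE, Or.inl (H1.nn_main hS hF hp (H1.sr3_of hsr.1) hE hn)⟩

end Cfsg.Agent.S5182
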