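import Cfsg.Statements.S5186
import Cfsg.Agent.H8.EssSmall2

set_option autoImplicit false
universe u
open Cfsg

namespace Cfsg.Agent.S5186

/-- Let F be a saturated fusion system over a finite p-group S and H an essential subgroup of order p³. Then H is elementary abelian, or p is odd and H is extraspecial of exponent p, or p = 2 and H is the quaternion group of order 8. -/
theorem result {Ω : Type u} [Group Ω] {S : Subgroup Ω} [Finite S] (p : ℕ) [Fact p.Prime] (hS : IsPGroup p S)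
    (F : Cfsg.FusionSystem S) (hF : F.IsSaturated p) (H : Subgroup Ω) (hH : F.IsEssential p H) (hcard : Nat.card H = p ^ 3) :
    Cfsg.IsElementaryAbelian p H ∨ (Odd p ∧ Cfsg.IsExtraspecial p ↥H ∧ ∀ x ∈ H, x ^ p = 1) ∨
      (p = 2 ∧ Nonempty (↥H ≃* QuaternionGroup 2)) := by
  haveI := Fus.finite_of_le hH.le
  rcases H8.card_cube_cases (Fus.isPGroup_of_le hS hH.le)
    (H8.essAut_of_isEssential hH).not_stab hcard with ⟨h1, h2⟩ | ⟨h1, h2, h3⟩ | h1
  · exact Or.inl ⟨⟨⟨h1⟩⟩, fun a ha => congrArg Subtype.val (h2 ⟨a, ha⟩)⟩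
  · exact Or.inr (Or.inl ⟨(Fact.out : p.Prime).odd_of_ne_two h1, h2,
      fun a ha => congrArg Subtype.val (h3 ⟨a, ha⟩)⟩)
  · exact Or.inr (Or.inr h1)

end Cfsg.Agent.S5186
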