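import Cfsg.Statements.S5187
import Cfsg.Agent.H8.EssSmall

set_option autoImplicit false
universe u
open Cfsg

namespace Cfsg.Agent.S5187

/-- Let F be a saturated fusion system over a finite p-group S and H an abelian essential subgroup that can be generated by two elements (its Frattini quotient has order at most p²). Then H is elementary abelian of order p², or p ≤ 3 and H is homocyclic of rank two, that is isomorphic to C_{pᵏ} × C_{pᵏ} for some k. -/
theorem result {Ω : Type u} [Group Ω] {S : Subgroup Ω} [Finite S] (p : ℕ) [Fact p.Prime] (hS : IsPGroup p S)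
    (F : Cfsg.FusionSystem S) (hF : F.IsSaturated p) (H : Subgroup Ω) (hH : F.IsEssential p H) (hab : IsMulCommutative ↥H) (hrk : (frattini ↥H).index ≤ p ^ 2) :
    (Cfsg.IsElementaryAbelian p H ∧ Nat.card H = p ^ 2) ∨
      (p ≤ 3 ∧ ∃ k : ℕ, Nonempty (↥H ≃* Multiplicative (ZMod (p ^ k) × ZMod (p ^ k)))) := by
  haveI := Fus.finite_of_le hH.le
  have hp := Fus.isPGroup_of_le hS hH.le
  obtain ⟨k, hk⟩ := hp.index (frattini H)
  obtain ⟨n, -, h1, ⟨e⟩⟩ := (H8.essAut_of_isEssential hH).homocyclic hp hab.1.1 (hk ▸ pow_dvd_pow p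
    ((Nat.pow_le_pow_iff_right (Fact.out : p.Prime).one_lt).1 (hk ▸ hrk)))
  refine h1.imp (fun h1 => ?_) fun h1 => ⟨h1, n, ⟨e.trans (MulEquiv.prodMultiplicative _ _).symm⟩⟩
  subst h1
  refine ⟨⟨hab, fun a ha => congrArg Subtype.val (e.injective (a₁ := ⟨a, ha⟩ ^ p) (a₂ := 1) ?_)⟩,
    by simp [Nat.card_congr e.toEquiv, sq]⟩
  rw [map_pow, map_one]
  refine (congrArg _ (pow_one p).symm).trans ?_
  exact Prod.ext (ZModModule.char_nsmul_eq_zero (p ^ 1) (e ⟨a, ha⟩).1.toAdd)
    (ZModModule.char_nsmul_eq_zero (p ^ 1) (e ⟨a, ha⟩).2.toAdd)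

end Cfsg.Agent.S5187
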