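import Cfsg.Statements.S5213
import Cfsg.Agent.H6.FusShape

set_option autoImplicit false
open Cfsg

namespace Cfsg.Agent.S5213

set_option linter.unusedVariables false
set_option linter.style.haveILetI false
open Cfsg.Agent.H6


/-- Let S be a finite 2-group of 2-rank 2 (it has an elementary abelian subgroup of order 4 and none of order 8) and F a saturated fusion system over S with trivial centre. Then S is dihedral, semidihedral, wreathed, homocyclic abelian (a direct product of cyclic groups of one common order), or isomorphic to a Sylow 2-subgroup of the projective special unitary group PSU₃(4) (realised over the field with 16 elements). -/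
theorem result {Ω : Type*} [Group Ω] {S : Subgroup Ω} [Finite S] (hS : IsPGroup 2 S) (F : Cfsg.FusionSystem S) (hF : F.IsSaturated 2) (hr : Cfsg.PRankAtLeast 2 2 ↥S ∧ ¬ Cfsg.PRankAtLeast 2 3 ↥S) (hZ : F.center = ⊥) {K : Type*} [Field K] [Fintype K] (hK : Fintype.card K = 16) : (∃ m : ℕ, Nonempty (↥S ≃* DihedralGroup m)) ∨ Cfsg.IsQuasiDihedral ↥S ∨ Cfsg.IsWreathed ↥S ∨ (∃ n k : ℕ, Nonempty (↥S ≃* Multiplicative (Fin k → ZMod (2 ^ n)))) ∨ ∃ T : Sylow 2 (Cfsg.PSU 3 K 4), Nonempty (↥S ≃* ↥(T : Subgroup (Cfsg.PSU 3 K 4))) := by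
  rcases shape_of_center_eq_bot hS hF (r2_of_not_pRankAtLeast hr.2) (has4_of_pRankAtLeast hr.1) hZ
    with ⟨m, -, h⟩ | h | h | ⟨n, x, y, H⟩ | ⟨⟨e⟩⟩
  · exact Or.inl ⟨m, h⟩
  · exact Or.inr (Or.inl h)
  · exact Or.inr (Or.inr (Or.inl h))
  · obtain ⟨e⟩ := H.equiv
    exact Or.inr (Or.inr (Or.inr (Or.inl ⟨n + 2, 2, ⟨e.trans (AddEquiv.toMultiplicative
      (LinearEquiv.finTwoArrow ℤ (ZMod (2 ^ (n + 2)))).symm.toAddEquiv)⟩⟩)))
  · obtain ⟨P⟩ : Nonempty (Sylow 2 (Cfsg.PSU 3 K 4)) := inferInstance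
    obtain ⟨f⟩ := sylow_psu_equiv hK P
    exact Or.inr (Or.inr (Or.inr (Or.inr ⟨P, ⟨e.trans f.symm⟩⟩)))

end Cfsg.Agent.S5213
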