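import Cfsg.Statements.S5215
import Cfsg.Agent.H6.Real2
import Cfsg.Agent.H9.NormSys

set_option autoImplicit false
open Cfsg

namespace Cfsg.Agent.S5215

set_option linter.unusedVariables false
set_option linter.style.haveILetI false
open Cfsg.Agent.H6


/-- Let S be a finite 2-group of 2-rank 2 (an elementary abelian subgroup of order 4, none of order 8) and F a simple saturated fusion system over S. Then S is dihedral, semidihedral or wreathed, and F is the fusion system of the projective special linear group PSL₂(q) for some odd prime power q ≡ ±1 (mod 8) or of PSL₃(q) for some odd prime power q: it is realized by an injective homomorphism of S into that group whose image is a Sylow 2-subgroup. -/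
theorem result {Ω : Type*} [Group Ω] {S : Subgroup Ω} [Finite S] (hS : IsPGroup 2 S) (F : Cfsg.FusionSystem S) (hF : F.IsSaturated 2) (hr : Cfsg.PRankAtLeast 2 2 ↥S ∧ ¬ Cfsg.PRankAtLeast 2 3 ↥S) (hsimple : F.IsSimple 2) : ((∃ m : ℕ, Nonempty (↥S ≃* DihedralGroup m)) ∨ Cfsg.IsQuasiDihedral ↥S ∨ Cfsg.IsWreathed ↥S) ∧ ∃ (K : Type) (_ : Field K) (_ : Fintype K) (q : ℕ), Fintype.card K = q ∧ Odd q ∧ (((q % 8 = 1 ∨ q % 8 = 7) ∧ ∃ ι : ↥S →* Matrix.ProjectiveSpecialLinearGroup (Fin 2) K, F.IsRealizedBy ι ∧ ∃ T : Sylow 2 (Matrix.ProjectiveSpecialLinearGroup (Fin 2) K), (T : Subgroup (Matrix.ProjectiveSpecialLinearGroup (Fin 2) K)) = ι.range) ∨ (∃ ι : ↥S →* Matrix.ProjectiveSpecialLinearGroup (Fin 3) K, F.IsRealizedBy ι ∧ ∃ T : Sylow 2 (Matrix.ProjectiveSpecialLinearGroup (Fin 3) K), (T : Subgroup (Matrix.ProjectiveSpecialLinearGroup (Fin 3) K)) = ι.range)) := by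
  have hR := r2_of_not_pRankAtLeast hr.2
  have h4 := has4_of_pRankAtLeast hr.1
  have hN : ¬ Cl2 S := fun h => hsimple.2.1 (eq_bot_of_simple hS hsimple h4 (h.isNormal hS hF))
  rcases shape_of_center_eq_bot hS hF hR h4 (eq_bot_of_simple hS hsimple h4
    (Cfsg.FusionSystem.isCentral_center9 F).isNormal) with
    ⟨n, hn, ⟨e⟩⟩ | h | h | ⟨n, x, y, h⟩ | ⟨⟨e⟩⟩
  · rcases tab_of_dihedral hS hn e with h | ⟨m, ⟨T⟩⟩
    · exact absurd (cl2_of_isKleinFour h) hN
    · obtain ⟨t, _, ht, h⟩ := simple_d T hsimple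
      exact ⟨Or.inl ⟨n, ⟨e⟩⟩, ZMod (t + 1), inferInstance, inferInstance, t + 1,
        card_zmod_succ t, by rw [Nat.odd_iff]; omega, Or.inl ⟨by omega, h⟩⟩
  · obtain ⟨m, ⟨T⟩⟩ := tab_of_qd h
    obtain ⟨t, _, ht, h'⟩ := simple_qd T hsimple
    exact ⟨Or.inr (Or.inl h), ZMod (t + 1), inferInstance, inferInstance, t + 1,
      card_zmod_succ t, by rw [Nat.odd_iff]; omega, Or.inr h'⟩
  · obtain ⟨m, ⟨T⟩⟩ := tab_of_wreathed h
    obtain ⟨t, _, ht, h'⟩ := simple_w T hsimple
    exact ⟨Or.inr (Or.inr h), ZMod (t + 1), inferInstance, inferInstance, t + 1,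
      card_zmod_succ t, by rw [Nat.odd_iff]; omega, Or.inr h'⟩
  · exact absurd (cl2_of_comm h.commute) hN
  · exact absurd (cl2_of_U64 e) hN

end Cfsg.Agent.S5215
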