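import Cfsg.Statements.S5242
import Cfsg.Agent.Ch.X4
import Cfsg.Agent.Ch.H1
import Cfsg.Agent.Ch.K
import Cfsg.Agent.Ch.M2
import Cfsg.Agent.Ch.Y
import Cfsg.Agent.Ch.N2
import Cfsg.Agent.Ch.P1
import Cfsg.Agent.Ch.R1
import Cfsg.Agent.Ch.T2
import Cfsg.Agent.Ch.U3
import Cfsg.Agent.Ch.V2

set_option autoImplicit false
open Cfsg

namespace Cfsg.Agent.S5242

/-- Let F be a saturated fusion system over a finite p-group S and A a subgroup of S central in F (every map of F extends to a map fixing A elementwise). Then, for every factor system E of F by A, F is exotic (saturated, but not the fusion system of a finite group on one of its Sylow p-subgroups) if and only if E is exotic. -/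
theorem result {Ω : Type*} [Group Ω] {S : Subgroup Ω} [Finite S] (p : ℕ) [Fact p.Prime] (hS : IsPGroup p S) (F : Cfsg.FusionSystem S) (hF : F.IsSaturated p) (A : Subgroup Ω) (hA : F.IsCentral A) {Ω' : Type*} [Group Ω'] {S' : Subgroup Ω'} [Finite S'] (θ : ↥S →* Ω') (E : Cfsg.FusionSystem S') (hE : F.IsFactorSystem A θ E) : F.IsExotic p ↔ E.IsExotic p :=
  Cfsg.Agent.Ch.exotic_iff hS hF hA hE

end Cfsg.Agent.S5242
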