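import Cfsg.Statements.S5248
import Cfsg.Agent.H6.RealQ

set_option autoImplicit false
open Cfsg

namespace Cfsg.Agent.S5248

set_option linter.unusedVariables false
set_option linter.style.haveILetI false
open Cfsg.Agent.H6


/-- Let S be a finite 2-group that is dihedral of order at least 8, generalized quaternion of order at least 8, semidihedral, or wreathed, and let F be a saturated fusion system over S. Then F has at most two F-conjugacy classes of F-essential subgroups (among any three essential subgroups two are joined by a map of F), and F is realizable: it is the fusion system of a finite group on a Sylow 2-subgroup. -/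
theorem result {Ω : Type*} [Group Ω] {S : Subgroup Ω} [Finite S] (hS : IsPGroup 2 S) (F : Cfsg.FusionSystem S) (hF : F.IsSaturated 2) (hshape : ((∃ m : ℕ, 4 ≤ m ∧ Nonempty (↥S ≃* DihedralGroup m)) ∨ (∃ m : ℕ, 2 ≤ m ∧ Nonempty (↥S ≃* QuaternionGroup m)) ∨ Cfsg.IsQuasiDihedral ↥S ∨ Cfsg.IsWreathed ↥S)) : (∀ E₁ E₂ E₃ : Subgroup Ω, F.IsEssential 2 E₁ → F.IsEssential 2 E₂ → F.IsEssential 2 E₃ → (∃ φ ∈ F.Hom E₁, φ.range = E₂) ∨ (∃ φ ∈ F.Hom E₁, φ.range = E₃) ∨ (∃ φ ∈ F.Hom E₂, φ.range = E₃)) ∧ F.IsRealizable 2 := by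
  have key : TwoCl F ∧ F.IsRealizable 2 := by
    rcases hshape with ⟨n, hn, ⟨e⟩⟩ | ⟨n, hn, ⟨e⟩⟩ | h | h
    · rcases tab_of_dihedral hS (by omega) e with h | ⟨m, ⟨T⟩⟩
      · have := h.card_four
        rw [Nat.card_congr e.toEquiv, DihedralGroup.nat_card] at this
        omega
      · obtain ⟨h1, G, _, _, h⟩ := real_d T hF
        exact ⟨h1, h.isRealizable⟩
    · exact real_quat hS hF hn e
    · obtain ⟨m, ⟨T⟩⟩ := tab_of_qd h
      obtain ⟨h1, G, _, _, h⟩ := real_qd T hF
      exact ⟨h1, h.isRealizable⟩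
    · obtain ⟨m, ⟨T⟩⟩ := tab_of_wreathed h
      obtain ⟨h1, G, _, _, h⟩ := real_w T hF
      exact ⟨h1, h.isRealizable⟩
  exact ⟨key.1.three, key.2⟩

end Cfsg.Agent.S5248
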