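import Cfsg.Statements.S5259
import Cfsg.Agent.H7.Heis
import Cfsg.Agent.L.Model

set_option autoImplicit false
open Cfsg

namespace Cfsg.Agent.S5259

open Cfsg.Fus Cfsg.FusionSystem

/-- Let p be a prime, K a finite field of characteristic p, and S a finite p-group isomorphic to a Sylow p-subgroup of SL₃(K). Then every exotic fusion system F over S (saturated but not the fusion system of a finite group on a Sylow p-subgroup) has no nontrivial normal subgroup: O_p(F) = 1. -/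
theorem result {Ω : Type*} [Group Ω] {S : Subgroup Ω} [Finite S] (p : ℕ) [Fact p.Prime] (hS : IsPGroup p S) (F : Cfsg.FusionSystem S) (hF : F.IsSaturated p) {K : Type*} [Field K] [Fintype K] [CharP K p] (T : Sylow p (Matrix.SpecialLinearGroup (Fin 3) K)) (e : ↥S ≃* ↥(T : Subgroup (Matrix.SpecialLinearGroup (Fin 3) K))) (hex : F.IsExotic p) : F.core = ⊥ := by
  by_contra hc
  obtain ⟨U, hU⟩ := H7.exists_sylow_uniGrp (K := K) p
  set f : S →* Matrix.SpecialLinearGroup (Fin 3) K :=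
    (U : Subgroup _).subtype.comp ((e.trans (T.equiv U)) : S →* _) with hf
  have hinj : Function.Injective f := Subtype.val_injective.comp (e.trans (T.equiv U)).injective
  have h1 : ∀ s : S, ∃ a b c, f s = H7.uni a b c := fun s =>
    (hU.le (e.trans (T.equiv U) s).2 : _ ∈ H7.uniGrp K)
  have h2 : ∀ a b c, ∃ s : S, f s = H7.uni a b c := fun a b c =>
    ⟨(e.trans (T.equiv U)).symm ⟨H7.uni a b c, hU.ge ⟨a, b, c, rfl⟩⟩, by simp [hf]⟩
  have hcm : ∀ x y : S, Commute (x : Ω) y ↔ f x * f y = f y * f x := fun x y => by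
    rw [← map_mul, ← map_mul, hinj.eq_iff, Subtype.ext_iff]; rfl
  have hZ : ∀ (x : S) a b c, f x = H7.uni a b c →
      ((x : Ω) ∈ centralizerIn S S ↔ a = 0 ∧ b = 0) := fun x a b c hx => by
    refine ⟨fun h => ?_, fun h => ⟨x.2, Subgroup.mem_centralizer_iff.2 fun y hy => ?_⟩⟩
    · obtain ⟨s, hs⟩ := h2 1 0 0
      obtain ⟨t, ht⟩ := h2 0 1 0
      have a1 := (hcm s x).1 (Subgroup.mem_centralizer_iff.1 h.2 s s.2)
      have a2 := (hcm t x).1 (Subgroup.mem_centralizer_iff.1 h.2 t t.2)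
      rw [hs, hx, H7.uni_comm_iff] at a1
      rw [ht, hx, H7.uni_comm_iff] at a2
      exact ⟨by simpa using a2.symm, by simpa using a1⟩
    · obtain ⟨a', b', c', hy'⟩ := h1 ⟨y, hy⟩
      refine (hcm ⟨y, hy⟩ x).2 ?_
      rw [hx, hy', H7.uni_comm_iff, h.1, h.2]; ring
  suffices hcon : F.IsConstrained p by
    obtain ⟨G, _, ι, h⟩ := L.exists_model hS hcon
    exact hex.2 ⟨G, _, h.1, ι, h.2.1, h.2.2.1⟩
  refine hF.isConstrained_of_heis hS ?_ ?_ ?_ hc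
  · refine Subgroup.commutator_le.2 fun x hx y hy => ?_
    obtain ⟨a, b, c, h⟩ := h1 ⟨x, hx⟩
    obtain ⟨a', b', c', h'⟩ := h1 ⟨y, hy⟩
    refine (hZ (⟨x, hx⟩ * ⟨y, hy⟩ * ⟨x, hx⟩⁻¹ * ⟨y, hy⟩⁻¹) _ _ _ (by
      rw [map_mul, map_mul, map_mul, map_inv, map_inv, h, h', H7.uni_inv, H7.uni_inv, H7.uni_mul,
        H7.uni_mul, H7.uni_mul])).2 ⟨by ring, by ring⟩
  · intro x hx hx' y hy z hz a1 a2
    obtain ⟨a, b, c, h⟩ := h1 ⟨x, hx⟩
    obtain ⟨a', b', c', h'⟩ := h1 ⟨y, hy⟩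
    obtain ⟨a'', b'', c'', h''⟩ := h1 ⟨z, hz⟩
    have b1 := (hcm ⟨x, hx⟩ ⟨y, hy⟩).1 a1
    have b2 := (hcm ⟨x, hx⟩ ⟨z, hz⟩).1 a2
    refine (hcm ⟨y, hy⟩ ⟨z, hz⟩).2 ?_
    rw [h, h', H7.uni_comm_iff] at b1
    rw [h, h'', H7.uni_comm_iff] at b2
    rw [h', h'', H7.uni_comm_iff]
    rcases not_and_or.1 (mt (hZ _ _ _ _ h).2 hx') with h0 | h0
    · exact mul_left_cancel₀ h0 (by linear_combination a' * b2 - a'' * b1)
    · exact mul_left_cancel₀ h0 (by linear_combination b' * b2 - b'' * b1)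
  · intro x hx hx' y hy
    obtain ⟨a, b, c, h⟩ := h1 ⟨x, hx⟩
    obtain ⟨a', b', c', h'⟩ := h1 ⟨y, hy.1⟩
    obtain ⟨rfl, rfl⟩ := (hZ _ _ _ _ h').1 hy
    obtain ⟨u, v, huv⟩ : ∃ u v, u * b - a * v = c' := by
      rcases not_and_or.1 (mt (hZ _ _ _ _ h).2 hx') with h0 | h0
      · exact ⟨0, -c' / a, by field_simp; ring⟩
      · exact ⟨c' / b, 0, by field_simp; ring⟩
    obtain ⟨s, hs⟩ := h2 u v 0
    refine ⟨s, s.2, congrArg Subtype.val (hinj (a₁ := s * ⟨x, hx⟩ * s⁻¹)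
      (a₂ := ⟨x, hx⟩ * ⟨y, hy.1⟩) ?_)⟩
    rw [map_mul, map_mul, map_mul, map_inv, h, h', hs, H7.uni_inv, H7.uni_mul, H7.uni_mul,
      H7.uni_mul, H7.uni_inj]
    exact ⟨by ring, by ring, by linear_combination huv⟩

end Cfsg.Agent.S5259
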