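import Cfsg.Statements.S5265
import Cfsg.Agent.H1.Cls2
import Cfsg.Agent.H8.OP

set_option autoImplicit false
open Cfsg

namespace Cfsg.Agent.S5265

/-- Let p be a prime, S a nontrivial finite p-group whose centre has index at most p², and F a saturated fusion system over S with no nontrivial normal subgroup and with hyperfocal subgroup equal to S. Then S is extraspecial of order p³; for odd p it has exponent p, and for p = 2 it is dihedral of order 8. -/
theorem result {Ω : Type*} [Group Ω] {S : Subgroup Ω} [Finite S] (p : ℕ) [Fact p.Prime] (hS : IsPGroup p ↥S) (F : Cfsg.FusionSystem S) (hF : F.IsSaturated p) (hS1 : S ≠ ⊥) (hcore : F.core = ⊥) (hhyp : F.hyperfocalSubgroup p = S) (hZ : (Subgroup.center ↥S).index ≤ p ^ 2) : Cfsg.IsExtraspecial p ↥S ∧ Nat.card S = p ^ 3 ∧ (p ≠ 2 → Monoid.exponent ↥S = p) ∧ (p = 2 → Nonempty (↥S ≃* DihedralGroup 4)) := by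
  have h : H1.Cls2 p S := by
    refine ⟨hS, ?_, fun hc => hS1 ?_⟩
    · rwa [← H1.map_center_eq, Subgroup.relIndex, Subgroup.subgroupOf,
        Subgroup.comap_map_eq_self_of_injective S.subtype_injective]
    · rw [← le_bot_iff, ← hcore]
      exact (hF.isNormal_of_ext hS le_rfl fun P _ σ hσ =>
        H8.exists_top_ext_of_comm hF (H1.comm_of_isMulCommutative hc) hσ).le_core
  refine h.final hF hcore ?_
  by_cases hp2 : p = 2
  · subst hp2
    exact h.zc_le_of_two hF hcore (hhyp.ge.trans (H8.hyp_le_focal F 2))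
  · exact h.zc_le_of_odd hp2 hF hcore

end Cfsg.Agent.S5265
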