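import Cfsg.Statements.S5270
import Cfsg.Agent.H1.MaxC2
import Cfsg.Agent.H1.AbCore

set_option autoImplicit false
open Cfsg

namespace Cfsg.Agent.S5270

/-- Let p ≥ 5 be a prime, S a finite p-group of maximal class of order p^n with n ≥ 4, and F a saturated fusion system over S. If some map of F defined on the second centre Z₂(S) with image Z₂(S) does not carry Z(S) into itself, then the centralizer C_S(Z₂(S)) is an F-essential subgroup. -/
theorem result {Ω : Type*} [Group Ω] {S : Subgroup Ω} [Finite S] (p : ℕ) [Fact p.Prime] (hS : IsPGroup p ↥S) (n : ℕ) (hn : Nat.card S = p ^ n) (h4 : 4 ≤ n) (hmax : Subgroup.lowerCentralSeries S (n - 2) ≠ ⊥) (F : Cfsg.FusionSystem S) (hF : F.IsSaturated p) (hp : 5 ≤ p) (φ : ↥((Subgroup.upperCentralSeries ↥S 2).map S.subtype) →* Ω) (hφ : φ ∈ F.Hom ((Subgroup.upperCentralSeries ↥S 2).map S.subtype)) (hφZ : φ.range = ((Subgroup.upperCentralSeries ↥S 2).map S.subtype)) (hmove : ∃ (z : Ω) (hz : z ∈ ((Subgroup.upperCentralSeries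 ↥S 2).map S.subtype)), z ∈ ((Subgroup.center ↥S).map S.subtype) ∧ φ ⟨z, hz⟩ ∉ ((Subgroup.center ↥S).map S.subtype)) : F.IsEssential p (S ⊓ Subgroup.centralizer (((Subgroup.upperCentralSeries ↥S 2).map S.subtype) : Set Ω)) := by
  obtain ⟨m, rfl⟩ : ∃ m, n = m + 4 := ⟨n - 4, by omega⟩
  have h1 := H1.index_centralizer_ucs_two hS hn (fun e => hmax (by
    rw [← Subgroup.top_subtype_lowerCentralSeries,
      Subgroup.map_eq_bot_iff_of_injective _ S.subtype_injective]; exact e))
  rw [H1.map_center_eq] at hmove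
  change F.IsEssential p (FusionSystem.centralizerIn S (Fus.zSer S 2))
  have h2 : (FusionSystem.centralizerIn S (Fus.zSer S 2)).relIndex S = p := by
    rw [← h1, Subgroup.relIndex]
    congr 1
    ext x
    exact ⟨fun h y hy => Subtype.ext (h.2 _ ⟨y, hy, rfl⟩),
      fun h => ⟨x.2, by rintro _ ⟨y, hy, rfl⟩; exact congrArg Subtype.val (h y hy)⟩⟩
  have hC := Fus.centralizerIn_le S (Fus.zSer S 2)
  have hne : FusionSystem.centralizerIn S (Fus.zSer S 2) ≠ S := fun e =>
    (Fact.out : p.Prime).one_lt.ne' (by rw [← h2, e, Subgroup.relIndex_self])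
  have hZ : H1.zc S ≤ FusionSystem.centralizerIn S (Fus.zSer S 2) :=
    Fus.centralizerIn_anti S (Fus.zSer_le S 2)
  obtain ⟨σ, h3, h4⟩ := FusionSystem.exists_perm_of_mem hφ
  have h5 : F.Iso (Fus.zSer S 2) (Fus.zSer S 2) σ := h3.iso_self fun x hx => by
    rw [← h4 ⟨x, hx⟩]; exact hφZ.le ⟨_, rfl⟩
  have hn2 := F.isFullyNormalized_of_le_normalizer (Fus.zSer_le S 2) (H1.le_normalizer_zSer S 2)
  obtain ⟨τ, h6, h7⟩ := (hn2.isReceptive hF hS).exists_ext_centralizer h5
  have h8 : F.Iso _ _ τ := (h6.mono le_sup_right).iso_self fun x hx => by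
    have := h6.mem_centralizerIn le_sup_left (Subgroup.mem_sup_right hx) hx.2
    rwa [(h5.congr h7).img_eq] at this
  refine (FusionSystem.isEssential_iff_extStab_ne hF hS (lt_of_le_of_ne hC hne)
    (F.isFullyNormalized_of_le_normalizer hC (H1.le_normalizer_of_relIndex hS hC h2))).2
    fun e => ?_
  haveI := Fus.finite_of_le (inf_le_left : H1.zc S ≤ S)
  have h9 : F.extStab (FusionSystem.centralizerIn S (Fus.zSer S 2)) ≤ Fus.setStab (H1.zc S) := by
    refine (Subgroup.closure_le _).2 ?_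
    rintro α ⟨-, Q, hQ, β, h1, h3⟩
    obtain rfl := (H1.eq_or_eq_of_relIndex hQ.le h1.le h2).resolve_left hQ.ne'
    exact Fus.mem_setStab_of_finite fun x hx =>
      h3 x (hZ hx) ▸ (H1.iso_zc (h1.iso_self fun _ => h1.mem)).mem hx
  obtain ⟨z, hz, hz1, hz2⟩ := hmove
  refine hz2 ?_
  rw [h4, ← h7 z hz]
  exact (h9 (e ▸ h8.mem_stab) z).2 hz1

end Cfsg.Agent.S5270
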