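import Cfsg.Statements.S5296
import Cfsg.Agent.H7.Crit

set_option autoImplicit false
universe u
open Cfsg

namespace Cfsg.Agent.S5296

open Cfsg.Fus Cfsg.FusionSystem

/-- Small-exponent abelian subgroups of the hyperfocal subgroup control fusion. Let E and F be saturated fusion systems over the same finite p-group S with E contained in F. Suppose that E and F have the same maps between A and B for all subgroups A, B of the hyperfocal subgroup of F that are elementary abelian when p is odd, respectively abelian of exponent dividing 4 when p = 2. Then E = F. -/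
theorem result {Ω : Type u} [Group Ω] {S : Subgroup Ω} [Finite S] (p : ℕ) [Fact p.Prime] (hS : IsPGroup p S)
    (E F : Cfsg.FusionSystem S) (hE : E.IsSaturated p) (hF : F.IsSaturated p) (hEF : E.IsSubsystemOf F)
    (hodd : p ≠ 2 → ∀ A B : Subgroup Ω, A ≤ (F.hyperfocalSubgroup p) → B ≤ (F.hyperfocalSubgroup p) →
      Cfsg.IsElementaryAbelian p A → Cfsg.IsElementaryAbelian p B → E.homSet A B = F.homSet A B)
    (htwo : p = 2 → ∀ A B : Subgroup Ω, A ≤ (F.hyperfocalSubgroup p) → B ≤ (F.hyperfocalSubgroup p) →
      IsMulCommutative ↥A → IsMulCommutative ↥B → (∀ a ∈ A, a ^ 4 = 1) → (∀ b ∈ B, b ^ 4 = 1) → E.homSet A B = F.homSet A B) :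
    ∀ P : Subgroup Ω, E.Hom P = F.Hom P := by
  have key := hF.le_of_small hE hS hEF fun A σ h1 h2 h3 h4 => by
    have h5 := (H8.stronglyClosed_hyp hF hS).img_le h4 h1
    have h6 : ∀ b ∈ img σ A, b ^ expo p = 1 := fun b hb => by
      obtain ⟨a, ha, rfl⟩ := h4.mem_img.1 hb
      rw [← h4.homOn.map_pow ha, h3 a ha, h4.homOn.map_one]
    have h7 : IsMulCommutative A := Subgroup.le_centralizer_iff_isMulCommutative.1 h2
    have h8 : IsMulCommutative (img σ A) := Subgroup.le_centralizer_iff_isMulCommutative.1
      (img_le_iff.2 fun a ha => h4.mem_centralizer_img le_rfl ha (h2 ha))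
    have h9 : E.homSet A (img σ A) = F.homSet A (img σ A) := by
      by_cases hp : p = 2
      · simp only [expo, if_pos hp] at h3 h6
        exact htwo hp A _ h1 h5 h7 h8 h3 h6
      · simp only [expo, if_neg hp] at h3 h6
        exact hodd hp A _ h1 h5 ⟨h7, h3⟩ ⟨h8, h6⟩
    exact isMap_of_mem (h9.ge ⟨h4.toHom_mem, fun x => mem_img_of_mem σ x.2⟩).1 fun _ => rfl
  exact fun P => (hEF P).antisymm (key P)

end Cfsg.Agent.S5296
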