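import Cfsg.Statements.S5287
import Cfsg.Agent.H8.NI

set_option autoImplicit false
open Cfsg

namespace Cfsg.Agent.S5287

/-- Let S be a finite metacyclic p-group (an extension of a cyclic group by a cyclic group). Every saturated fusion system over S is supersoluble (S has a chain of F-strongly closed subgroups from 1 to S with cyclic steps) if and only if S is not homocyclic of rank two (isomorphic to Z/p^n × Z/p^n with n ≥ 1) and, when p = 2, S is not dihedral of order at least 4, not quasi-dihedral (semidihedral) and not generalized quaternion of order at least 8. -/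
theorem result {Ω : Type*} [Group Ω] {S : Subgroup Ω} [Finite S] (p : ℕ) [Fact p.Prime] (hS : IsPGroup p ↥S) (hm : Cfsg.IsMetacyclic ↥S) : (∀ F : Cfsg.FusionSystem S, F.IsSaturated p → (∃ (m : ℕ) (c : Fin (m + 1) → Subgroup Ω), c 0 = ⊥ ∧ c (Fin.last m) = S ∧ (∀ i : Fin (m + 1), F.StronglyClosed (c i)) ∧ ∀ i : Fin m, c i.castSucc ≤ c i.succ ∧ ∃ x ∈ S, c i.succ = c i.castSucc ⊔ Subgroup.zpowers x)) ↔ ¬ ((∃ n : ℕ, 0 < n ∧ Nonempty (↥S ≃* Multiplicative (ZMod (p ^ n)) × Multiplicative (ZMod (p ^ n)))) ∨ (p = 2 ∧ ((∃ n : ℕ, 2 ≤ n ∧ Nonempty (↥S ≃* DihedralGroup n)) ∨ Cfsg.IsQuasiDihedral ↥S ∨ (∃ n : ℕ, 2 ≤ n ∧ Nonempty (↥S ≃* QuaternionGroup n))))) := by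
  constructor
  · rintro h (⟨n, hn, ⟨e⟩⟩ | ⟨rfl, h1⟩)
    · exact H8.not_pc_zmod Unit hn
        (H8.PC.of_equiv ((H8.forall_ssTo_iff hS).1 h).2 (e.trans MulEquiv.prodUnique.symm))
    · obtain ⟨F, hF, h2⟩ := (H8.ni_of_cases hS h1).exists_system
      obtain ⟨h3, h4⟩ := (H8.ssTo_iff_cyc hF hS).1 (h F hF)
      exact h2 (H8.eq_inner_of_isNormal hF h3
        (H8.PFlag.isPGroup_two hS (by simpa using h4.pFlag hS)))
  · intro h
    have hM : ¬ (p = 2 ∧ H8.MaxCl S) := fun h1 => h (Or.inr ⟨h1.1, h1.2.cases⟩)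
    refine (H8.forall_ssTo_iff hS).2 ⟨fun F hF => (H8.normal_or_maxCl F.stronglyClosed_top hF hS
      hm).resolve_right hM, fun H hH => H8.PFlag.comm_of_coprime hS ?_ hH⟩
    obtain ⟨h1, h2 | h2 | h2 | ⟨M, h2, h3, h4⟩⟩ := H8.metacyclic_cases hS hm H
    · exact H8.pFlag_of_index (H8.index_frattini_dvd_of_isCyclic hS)
    · exact absurd (Or.inl h2) h
    · exact absurd h2 hM
    · exact H8.pFlag_of_rank_two hS h1 h2 h3 h4

end Cfsg.Agent.S5287
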