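import Cfsg.Statements.S5299
import Cfsg.Agent.H7.Iff

set_option autoImplicit false
universe u
open Cfsg

namespace Cfsg.Agent.S5299

/-- Let F be a saturated fusion system over a finite p-group S, H a finite group and Q a p-subgroup of H. If Q is not involved in S (no section of S is isomorphic to Q), then F is H-free: H is involved in no model of the normalizer system of a fully normalized centric subgroup. -/
theorem result {Ω : Type u} [Group Ω] {S : Subgroup Ω} [Finite S] (p : ℕ) [Fact p.Prime] (hS : IsPGroup p S)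
    (F : Cfsg.FusionSystem S) (hF : F.IsSaturated p) (H : Type*) [Group H] [Finite H] (Q : Subgroup H) (hQ : IsPGroup p Q)
    (hfree : ¬ Cfsg.Involves (↥Q) (↥S)) : F.IsSectionFree p H := by
  intro U hU hUc N hN L _ ι hL ⟨K, R, hRn, ⟨e⟩⟩
  obtain ⟨hfin, ⟨hinj, -⟩, ⟨T, hT⟩, -⟩ := hL
  apply hfree
  -- the surjection `f : K → H`, and the preimage `K₁` of `Q`
  let f : K →* H := e.toMonoidHom.comp (QuotientGroup.mk' _)
  have hf : Function.Surjective f := e.surjective.comp (QuotientGroup.mk'_surjective _)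
  let K₁ : Subgroup K := Q.comap f
  let f₁ : K₁ →* Q := (f.comp K₁.subtype).codRestrict Q fun x => x.2
  have hf₁ : Function.Surjective f₁ := by
    rintro ⟨q, hq⟩
    obtain ⟨k, rfl⟩ := hf q
    exact ⟨⟨k, hq⟩, rfl⟩
  obtain ⟨P⟩ : Nonempty (Sylow p K₁) := inferInstance
  have hP : (P : Subgroup K₁).map f₁ = ⊤ :=
    ((P.mapSurjective hf₁).is_maximal' (Q := ⊤) (hQ.of_equiv Subgroup.topEquiv.symm) le_top).symm
  -- embed `P` into `S`
  let j : P →* L := K.subtype.comp (K₁.subtype.comp (P : Subgroup K₁).subtype)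
  have hj : Function.Injective j :=
    K.subtype_injective.comp (K₁.subtype_injective.comp (P : Subgroup K₁).subtype_injective)
  have hjp : IsPGroup p j.range := P.isPGroup'.of_surjective _ j.rangeRestrict_surjective
  obtain ⟨T', hT'⟩ := hjp.exists_le_sylow
  obtain ⟨g, hg⟩ := MulAction.exists_smul_eq L T' T
  have hmem : ∀ x : P, (MulAut.conj g) (j x) ∈ ι.range := by
    intro x
    rw [← hT, ← hg, Sylow.coe_subgroup_smul]
    exact Subgroup.smul_mem_pointwise_smul _ _ _ (hT' ⟨x, rfl⟩)
  let j₁ : P →* ι.range := ((MulAut.conj g).toMonoidHom.comp j).codRestrict _ hmem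
  have hj₁ : Function.Injective j₁ := fun a b hab =>
    hj ((MulAut.conj g).injective (congrArg Subtype.val hab))
  let j₂ : P →* S := (Subgroup.inclusion (Cfsg.Fus.normalizerIn_le S U)).comp
    ((MonoidHom.ofInjective hinj).symm.toMonoidHom.comp j₁)
  have hj₂ : Function.Injective j₂ :=
    (Subgroup.inclusion_injective (Cfsg.Fus.normalizerIn_le S U)).comp ((MonoidHom.ofInjective hinj).symm.injective.comp hj₁)
  let f₂ : j₂.range →* Q := (f₁.comp (P : Subgroup K₁).subtype).comp
    (MonoidHom.ofInjective hj₂).symm.toMonoidHom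
  have hf₂ : Function.Surjective f₂ := by
    intro q
    have : q ∈ (P : Subgroup K₁).map f₁ := hP ▸ Subgroup.mem_top q
    obtain ⟨x, hx, rfl⟩ := this
    exact ⟨MonoidHom.ofInjective hj₂ ⟨x, hx⟩, by simp [f₂]⟩
  have hker : (f₂.ker.map j₂.range.subtype).subgroupOf j₂.range = f₂.ker :=
    Subgroup.comap_map_eq_self_of_injective (Subgroup.subtype_injective _) _
  haveI hn : ((f₂.ker.map j₂.range.subtype).subgroupOf j₂.range).Normal := hker.symm ▸ inferInstance
  exact ⟨j₂.range, f₂.ker.map j₂.range.subtype, hn,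
    ⟨(QuotientGroup.quotientMulEquivOfEq hker).trans (QuotientGroup.quotientKerEquivOfSurjective f₂ hf₂)⟩⟩

end Cfsg.Agent.S5299
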