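import Cfsg.Statements.S5343
import Cfsg.Agent.L.MinSimple

set_option autoImplicit false
universe u
open Cfsg

namespace Cfsg.Agent.S5343

/-- Let F be a simple saturated fusion system over a finite p-group S that is realized by some finite group on a Sylow p-subgroup. Then F is realized by a finite simple group on a Sylow p-subgroup. -/
theorem result {Ω : Type u} [Group Ω] {S : Subgroup Ω} [Finite S] (p : ℕ) [Fact p.Prime] (hS : IsPGroup p S) (F : Cfsg.FusionSystem S) (hsimple : F.IsSimple p) (hreal : F.IsRealizable p) : ∃ (G : Type u) (_ : Group G) (_ : Finite G) (_ : IsSimpleGroup G) (ι : ↥S →* G), F.IsRealizedBy ι ∧ ∃ T : Sylow p G, (T : Subgroup G) = ι.range := by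
  have key : ∀ (n : ℕ) (G : Type u) [Group G] [Finite G] (ι : S →* G), Nat.card G = n →
      F.IsRealizedBy ι → Cfsg.Agent.L.IsSylowIn p ι.range ⊤ →
      ∃ (G : Type u) (_ : Group G) (_ : Finite G) (_ : IsSimpleGroup G) (ι : ↥S →* G),
        F.IsRealizedBy ι ∧ ∃ T : Sylow p G, (T : Subgroup G) = ι.range := by
    intro n
    induction n using Nat.strong_induction_on with
    | _ n ih =>
    intro G _ _ ι hn h1 h2
    by_cases hG : IsSimpleGroup G
    · exact ⟨G, _, ‹_›, hG, ι, h1, Cfsg.Agent.L.isSylowIn_top_iff.1 h2⟩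
    obtain ⟨θ', t⟩ := Cfsg.Agent.L.exists_transp_of_realized h1
    have h3 := t.isSimple hsimple
    haveI : Nontrivial G := by
      by_contra h
      haveI := not_nontrivial_iff_subsingleton.1 h
      exact h3.2.1 (Subsingleton.elim _ _)
    obtain ⟨N, hN, hN1, hN2⟩ : ∃ N : Subgroup G, N.Normal ∧ N ≠ ⊥ ∧ N ≠ ⊤ := by
      by_contra h
      push Not at h
      exact hG ⟨fun N hN => (eq_or_ne N ⊥).imp id (h N hN)⟩
    rcases Cfsg.Agent.L.normal_dichotomy_of_simple h2 h3 N with h | ⟨h, h4⟩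
    · obtain ⟨h5, h6⟩ := Cfsg.Agent.L.realized_quotient h1 h2 N h
      exact ih _ (hn ▸ Cfsg.Agent.H1.card_quotient_lt hN1) (G ⧸ N) _ rfl h5 h6
    · have k := Cfsg.Agent.L.transp_subgroupOf h
      rw [h4] at k
      obtain ⟨h5, h6⟩ := Cfsg.Agent.L.realized_of_transp (t.trans k.symm.restrict)
        (ι := ι.codRestrict N fun x => h ⟨x, rfl⟩) fun x => by
          have hx : Cfsg.Fus.extFun ι x ∈ N := h (Cfsg.Agent.L.extFun_mem_range ι x.2)
          simp only [Function.comp_apply]
          rw [dif_pos hx]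
          exact Subtype.ext (Cfsg.Fus.extFun_coe ι x).symm
      refine ih _ ?_ N _ rfl h5 ?_
      · rw [← hn, ← Subgroup.card_top (G := G)]
        exact Cfsg.Agent.H1.card_lt_of_lt (lt_top_iff_ne_top.2 hN2)
      · rw [h6, Cfsg.Agent.L.isSylowIn_subgroupOf_top_iff h]
        exact h2.of_le h le_top
  obtain ⟨G, _, _, ι, h1, h2⟩ := hreal
  exact key _ G ι rfl h1 (Cfsg.Agent.L.isSylowIn_top_iff.2 h2)

end Cfsg.Agent.S5343
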